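import Cfsg.Agent.H14.NF0
import Cfsg.Agent.H54.NFSpec

/-! Tower NF (S1308), chapter TE part 1: the point geometry exists. Proofs: `blueprints/TP.md`. -/

set_option autoImplicit false

namespace H86.TP

open Cfsg Subgroup MulAction H14 H98 H1.Gold H31.S2 H14.GC H14.FE H14.NF
open scoped commutatorElement

universe u

section Defs

variable {G : Type u} [Group G]

/-- The central involutions of `R` and the identity. -/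
def OZ (R : Subgroup G) : Subgroup G where
  carrier := {z | z ∈ R ∧ z * z = 1 ∧ ∀ x ∈ R, x * z = z * x}
  one_mem' := ⟨one_mem _, one_mul _, fun x _ => by rw [mul_one, one_mul]⟩
  mul_mem' := by
    rintro a b ⟨a1, a2, a3⟩ ⟨b1, b2, b3⟩
    refine ⟨mul_mem a1 b1, ?_, fun x hx => ?_⟩
    · calc a * b * (a * b) = a * (b * a) * b := by group
        _ = (a * a) * (b * b) := by rw [a3 b b1]; group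
        _ = 1 := by rw [a2, b2, one_mul]
    · rw [← mul_assoc, a3 x hx, mul_assoc, b3 x hx, mul_assoc]
  inv_mem' := by
    rintro a ⟨a1, a2, a3⟩
    have e : a⁻¹ = a := inv_eq_of_mul_eq_one_right a2
    rw [e]; exact ⟨a1, a2, a3⟩

theorem mem_OZ {R : Subgroup G} {z : G} :
    z ∈ OZ R ↔ z ∈ R ∧ z * z = 1 ∧ ∀ x ∈ R, x * z = z * x := Iff.rfl

/-- The setting of chapter TE in terms of `Q` only. -/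
structure TQ (Q : Subgroup G) : Prop where
  te : IsTightlyEmbedded Q
  four : Four Q
  all : ∀ Q' T, Vx Q Q' → Q' ≠ Q → IsSyl 2 T (Q' ⊓ nor Q) → T ≠ ⊥ → ¬ IsSyl 2 T Q' → El T ∧ Four T
  ex : ∃ Q' T, Vx Q Q' ∧ Q' ≠ Q ∧ IsSyl 2 T (Q' ⊓ nor Q) ∧ T ≠ ⊥ ∧ ¬ IsSyl 2 T Q'
  nel : ∀ R, IsSyl 2 R Q → ¬ El R

/-- A non-full edge with an invariant Sylow subgroup `R` of `Q` and `E = C_R(T)`. -/
structure LD (Q Q' T R E : Subgroup G) : Prop where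
  tq : TQ Q
  vx : Vx Q Q'
  ne : Q' ≠ Q
  syl : IsSyl 2 T (Q' ⊓ nor Q)
  el : El T
  four : Four T
  sylR : IsSyl 2 R Q
  norR : T ≤ nor R
  eq : E = R ⊓ cen T
  dis : ∀ t ∈ T, t ∈ Q → t = 1
  fix : ∀ t ∈ T, t ≠ 1 → R ⊓ cen1 t ≤ E
  card : Nat.card E = Nat.card T
  elE : El E
  fourE : Four E
  lt : ¬ R ≤ E
  sylE : IsSyl 2 E (Q ⊓ nor Q')
  sylC : ∀ t ∈ T, t ≠ 1 → IsSyl 2 E (Q ⊓ cen1 t)

/-- `P = N_R(E T)` and its basic properties. -/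
structure LP (Q Q' T R E P : Subgroup G) : Prop extends LD Q Q' T R E where
  eqP : P = R ⊓ nor (E ⊔ T)
  mem : ∀ y, y ∈ P ↔ y ∈ R ∧ ∀ t ∈ T, ⁅t, y⁆ ∈ E
  ltP : E < P
  cenE : P ≤ cen E
  sqE : ∀ y ∈ P, y * y ∈ E
  cmP : Cm3 P P E
  nd : ∀ y ∈ P, y ∉ E → ∀ t ∈ T, t ≠ 1 → ⁅t, y⁆ ≠ 1
  onto : ∀ y ∈ P, y ∉ E → ∀ r ∈ E, ∃ t ∈ T, ⁅t, y⁆ = r
  memF : ∀ f, f ∈ E ⊔ T ↔ ∃ r ∈ E, ∃ t ∈ T, f = r * t
  memPT : ∀ f, f ∈ P ⊔ T ↔ ∃ y ∈ P, ∃ t ∈ T, f = y * t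
  memRT : ∀ f, f ∈ R ⊔ T ↔ ∃ y ∈ R, ∃ t ∈ T, f = y * t

/-- Elements of `P` outside `E` have order four. -/
def Sq (E P : Subgroup G) : Prop := ∀ y ∈ P, y ∉ E → y * y ≠ 1

/-- Every element of `E` is a square in `P`. -/
def Sur (E P : Subgroup G) : Prop := ∀ r ∈ E, ∃ y ∈ P, y * y = r

/-- The case `P < R`: an element `x` that moves `E T`. -/
structure X0 (T R E P : Subgroup G) (x : G) : Prop where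
  memR : x ∈ R
  notP : x ∉ P
  norPT : x ∈ nor (P ⊔ T)
  norP : x ∈ nor P
  cm : ∀ t ∈ T, ⁅x, t⁆ ∈ P
  inj : ∀ t ∈ T, ⁅x, t⁆ ∈ E → t = 1

structure X1 (T R E P : Subgroup G) (x : G) : Prop extends X0 T R E P x where
  sur : ∀ y ∈ P, ∃ t ∈ T, y⁻¹ * ⁅x, t⁆ ∈ E
  fu : Fu E T P
  sq : Sq E P
  /-- the involutions of `P T` lie in `E T` or in its conjugate -/
  inv : ∀ y ∈ P, ∀ t ∈ T, t ≠ 1 → y * t * (y * t) = 1 → y ∈ E ∨ y⁻¹ * ⁅x, t⁆ ∈ E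

structure XX (T R E P : Subgroup G) (x : G) : Prop extends X1 T R E P x where
  idx : ∀ ρ ∈ R, ρ ∈ P ∨ ρ * x⁻¹ ∈ P

/-- The global facts. -/
structure GQ (Q : Subgroup G) : Prop where
  tq : TQ Q
  zq : ∀ R R', IsSyl 2 R Q → IsSyl 2 R' Q → OZ R' ≤ OZ R ⊔ opp 2 Q
  four : ∀ R, IsSyl 2 R Q → Four (OZ R)
  ld : ∀ Q' T R E P, LP Q Q' T R E P → E = OZ R ∧ Sq E P ∧ (P ≠ R → Fu E T P)

/-- `E` is the socle of a Sylow subgroup of `Q`. -/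
def So (Q E : Subgroup G) : Prop := ∃ R, IsSyl 2 R Q ∧ E = OZ R

/-- One full line. -/
def OneFu (Q E : Subgroup G) : Prop :=
  ∃ Q₁ E₁ Q₂ E₂ P, Col Q E Q₁ E₁ Q₂ E₂ ∧ PG1 Q₁ E₁ E₂ P ∧ Fu E₁ E₂ P

end Defs

/-! ### Statements -/

def TQ0 : Prop := AllG.{u} fun _ _ K => TE K → TQ (cen K)
def CJ : Prop := AllG.{u} fun _ _ Q => TQ Q → ∀ Q₁, Vx Q Q₁ → TQ Q₁
def LD0 : Prop := AllG.{u} fun _ _ Q => TQ Q → ∀ Q' T R, Vx Q Q' → Q' ≠ Q → IsSyl 2 T (Q' ⊓ nor Q) →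
  T ≠ ⊥ → IsSyl 2 R Q → T ≤ nor R →
  (IsSyl 2 T Q' → R ≤ cen T) ∧ (¬ IsSyl 2 T Q' → LD Q Q' T R (R ⊓ cen T))
def LP0 : Prop := AllG.{u} fun _ _ Q => ∀ Q' T R E, LD Q Q' T R E → LP Q Q' T R E (R ⊓ nor (E ⊔ T))
/-- The reversed edge. -/
def RV : Prop := AllG.{u} fun _ _ Q => ∀ Q' T R E, LD Q Q' T R E → ∃ R' P', LP Q' Q E R' T P'
def HK : Prop := AllG.{u} fun G _ D => ∀ (W S : Subgroup G) (a : G), El W → D ≤ cen W →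
  (∀ d ∈ D, ⁅a, d⁆ ∈ W) → IsSyl 2 S D → S ≤ cen1 a → D ≤ cen1 a
def XA : Prop := AllG.{u} fun _ _ Q => ∀ Q' T R E P, LP Q Q' T R E P →
  (P ≠ R → ∃ x ∈ R, x ∉ P ∧ x ∈ nor (P ⊔ T)) ∧ ∀ x ∈ R, x ∉ P → x ∈ nor (P ⊔ T) → X0 T R E P x
def XB : Prop := AllG.{u} fun _ _ Q => ∀ Q' T R E P x, LP Q Q' T R E P → X0 T R E P x → X1 T R E P x
def XC : Prop := AllG.{u} fun _ _ Q => ∀ Q' T R E P x, LP Q Q' T R E P → X1 T R E P x → XX T R E P x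
def X2 : Prop := AllG.{u} fun _ _ Q => ∀ Q' T R E P, LP Q Q' T R E P →
  (P ≠ R → ∃ x, XX T R E P x) ∧ ∀ x ∈ R, x ∉ P → x ∈ nor (P ⊔ T) → XX T R E P x
def OD : Prop := AllG.{u} fun _ _ Q => ∀ Q' T R E P R' P', LP Q Q' T R E P → LP Q' Q E R' T P' →
  ∀ y ∈ P, y ∉ E → ∀ v ∈ P', v ∉ T → ∃ g ∈ nor (E ⊔ T), v⁻¹ * (g * y * g⁻¹) ∈ cen (E ⊔ T)
def CQ : Prop := AllG.{u} fun _ _ Q => ∀ Q' T R E P, LP Q Q' T R E P →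
  ∀ y ∈ P, y ∉ E → ∀ w ∈ Q, (∃ n : ℕ, w ^ 2 ^ n = 1) → y⁻¹ * w ∈ cen (E ⊔ T) → w * w = y * y
def A3 : Prop := AllG.{u} fun _ _ Q => ∀ Q' T R E P, LP Q Q' T R E P → Sq E P
def TR : Prop := AllG.{u} fun _ _ Q => ∀ Q' T R E P, LP Q Q' T R E P → Fu E T P →
  ∀ r ∈ E, r ≠ 1 → ∀ r' ∈ E, r' ≠ 1 → ∃ h ∈ nor (E ⊔ T), h * r * h⁻¹ = r'
def SU : Prop := AllG.{u} fun _ _ Q => ∀ Q' T R E P, LP Q Q' T R E P → Fu E T P → Sur E P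
def ZR : Prop := AllG.{u} fun _ _ Q => ∀ Q' T R E P, LP Q Q' T R E P → E = OZ R
def SC : Prop := AllG.{u} fun _ _ Q => ∀ Q' T R E P, LP Q Q' T R E P →
  ∀ e ∈ E, ∀ g ∈ Q, g * e * g⁻¹ ∈ R → g * e * g⁻¹ ∈ E
def NC : Prop := AllG.{u} fun _ _ Q => ∀ Q' T R E P x, LP Q Q' T R E P → XX T R E P x →
  Q ⊓ nor R ≤ cen E
def ZS : Prop := AllG.{u} fun _ _ Q => ∀ R E, IsSyl 2 R Q → E = OZ R →
  (∀ e ∈ E, ∀ g ∈ Q, g * e * g⁻¹ ∈ R → g * e * g⁻¹ ∈ E) → Q ⊓ nor R ≤ cen E →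
  ∀ e ∈ E, ∀ g ∈ Q, g * e * g⁻¹ ∈ E ⊔ opp 2 Q
def F1 : Prop := AllG.{u} fun _ _ Q => ∀ Q' T R E, LP Q Q' T R E R →
  (Q ⊔ T) ⊓ nor (R ⊔ T) ≤ nor (E ⊔ T)
def F2 : Prop := AllG.{u} fun _ _ Q => ∀ Q' T R E, LP Q Q' T R E R →
  ∀ f ∈ E ⊔ T, ∀ g ∈ Q ⊓ nor E, g * f * g⁻¹ ∈ R ⊔ T → g * f * g⁻¹ ∈ E ⊔ T
def F3 : Prop := AllG.{u} fun _ _ Q => ∀ Q' T R E, LP Q Q' T R E R →
  ∀ f ∈ E ⊔ T, ∀ g ∈ Q ⊔ T, g * f * g⁻¹ ∈ R ⊔ T → g * f * g⁻¹ ∈ E ⊔ T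
def GO : Prop := AllG.{u} fun _ _ Q => ∀ Q' T R E, LP Q Q' T R E R →
  (∀ f ∈ E ⊔ T, ∀ g ∈ Q ⊔ T, g * f * g⁻¹ ∈ R ⊔ T → g * f * g⁻¹ ∈ E ⊔ T) →
  ∀ e ∈ E, ∀ g ∈ Q, g * e * g⁻¹ ∈ E ⊔ opp 2 Q
def GQ0 : Prop := AllG.{u} fun _ _ Q => TQ Q → GQ Q
/-- socles -/
def SO : Prop := AllG.{u} fun _ _ Q => GQ Q → ∀ E, So Q E →
  (∀ R, IsSyl 2 R Q → E ≤ R → E = OZ R) ∧ (∀ R, IsSyl 2 R Q → Nat.card (OZ R) = Nat.card E) ∧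
  ∀ Q₁ E₁, Pt Q E Q₁ E₁ → Vx Q Q₁ ∧ So Q₁ E₁ ∧ Nat.card E₁ = Nat.card E
def MNf : Prop := AllG.{u} fun _ _ Q₂ => GQ Q₂ → ∀ E₂ Q₁, So Q₂ E₂ → Vx Q₂ Q₁ →
  ∀ s ∈ Q₁, Inv s → s ∈ nor Q₂ → E₂ ≤ nor Q₁
/-- Collinear points give a non-full edge. -/
def CL : Prop := AllG.{u} fun G _ Q => TQ Q → ∀ E, So Q E → ∀ Q₁ E₁ Q₂ E₂, Col Q E Q₁ E₁ Q₂ E₂ →
  IsSyl 2 E₂ (Q₂ ⊓ nor Q₁) ∧ ∀ Y : Subgroup G, IsPGroup 2 Y → Y ≤ cen E₁ → Cm3 E₂ Y E₁ →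
    ∃ R P, LP Q₁ Q₂ E₂ R E₁ P ∧ Y ≤ nor R
def PX : Prop := AllG.{u} fun _ _ Q₁ => ∀ Q₂ E₂ R E₁ P Y, LP Q₁ Q₂ E₂ R E₁ P → Sq E₁ P →
  Y ≤ cen E₁ → Cm3 E₂ Y E₁ → Y ≤ nor R → PG1 Q₁ E₁ E₂ P ∧ Y ≤ nor P ∧ Cm3 Y P E₁
def TG0 : Prop := AllG.{u} fun _ _ Q => TQ Q → ∀ E, So Q E → TG Q E
def CO : Prop := AllG.{u} fun _ _ Q => TQ Q → ∃ E, So Q E ∧ ∃ Q₁ T, Col Q E Q E Q₁ T
def FU0 : Prop := AllG.{u} fun _ _ Q => TQ Q → ∀ E, So Q E → OneFu Q E → FU Q E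
def OUT : Prop := AllG.{u} fun _ _ K => TE K → ∀ E, So (cen K) E → OutK K E

/-- Chapter TE, part 1. -/
def Part1 : Prop := AllG.{u} fun _ _ K => TE K → ∃ E, TG (cen K) E ∧ OutK K E ∧
  (∃ Q₁ T, Col (cen K) E (cen K) E Q₁ T) ∧ (OneFu (cen K) E → FU (cen K) E)

/-! ### Jobs -/

def JobTQ0 : Prop := TQ0.{u} ∧ CJ.{u}
def JobLD0 : Prop := LD0.{u}
def JobLP0 : Prop := LP0.{u}
def JobRV : Prop := (CJ.{u} → LD0.{u} → LP0.{u} → RV.{u}) ∧ HK.{u}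
def JobXA : Prop := XA.{u}
def JobXB : Prop := XB.{u}
def JobXC : Prop := XC.{u}
def JobOD : Prop := OD.{u}
def JobCQ : Prop := CQ.{u}
def JobA3 : Prop := RV.{u} → X2.{u} → OD.{u} → CQ.{u} → A3.{u}
def JobTR : Prop := RV.{u} → OD.{u} → TR.{u}
def JobSU : Prop := A3.{u} → CQ.{u} → TR.{u} → SU.{u}
def JobZR : Prop := X2.{u} → A3.{u} → SU.{u} → ZR.{u}
def JobSC : Prop := HK.{u} → X2.{u} → A3.{u} → SU.{u} → ZR.{u} → SC.{u}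
def JobNC : Prop := ZR.{u} → NC.{u}
def JobZS : Prop := ZS.{u}
def JobF1 : Prop := A3.{u} → F1.{u}
def JobF2 : Prop := F1.{u} → F2.{u}
def JobF3 : Prop := A3.{u} → F2.{u} → F3.{u}
def JobGO : Prop := GO.{u}
def JobGQ0 : Prop := LD0.{u} → LP0.{u} → X2.{u} → A3.{u} → ZR.{u} → SC.{u} → NC.{u} → ZS.{u} →
  F3.{u} → GO.{u} → GQ0.{u}
def JobSO : Prop := SO.{u}
def JobMN : Prop := LD0.{u} → LP0.{u} → MNf.{u}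
def JobCL : Prop := CJ.{u} → LD0.{u} → LP0.{u} → HK.{u} → GQ0.{u} → SO.{u} → CL.{u}
def JobPX : Prop := PX.{u}
def JobTG0 : Prop := CJ.{u} → RV.{u} → GQ0.{u} → SO.{u} → MNf.{u} → CL.{u} → PX.{u} → TG0.{u}
def JobCO : Prop := LD0.{u} → LP0.{u} → RV.{u} → CJ.{u} → GQ0.{u} → CO.{u}
def JobFU0 : Prop := CJ.{u} → GQ0.{u} → SO.{u} → CL.{u} → PX.{u} → FU0.{u}
def JobOUT : Prop := TQ0.{u} → CL.{u} → OUT.{u}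

theorem part1_of (a : JobTQ0.{u}) (b : JobLD0.{u}) (c : JobLP0.{u}) (d : JobRV.{u})
    (e1 : JobXA.{u}) (e2 : JobXB.{u}) (e3 : JobXC.{u})
    (f : JobOD.{u}) (g : JobCQ.{u}) (h : JobA3.{u}) (i : JobTR.{u}) (j : JobSU.{u}) (k : JobZR.{u})
    (l : JobSC.{u}) (m : JobNC.{u}) (n : JobZS.{u}) (o : JobF1.{u}) (p : JobF2.{u}) (q : JobF3.{u})
    (r : JobGO.{u}) (s : JobGQ0.{u}) (t : JobSO.{u}) (v : JobMN.{u}) (w : JobCL.{u}) (x : JobPX.{u})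
    (y : JobTG0.{u}) (z : JobCO.{u}) (fu : JobFU0.{u}) (ou : JobOUT.{u}) : Part1.{u} := by
  have e : X2.{u} := by
    intro G _ _ Q Q' T R E P hL
    have k1 := fun x h1 h2 h3 =>
      e3 G Q Q' T R E P x hL (e2 G Q Q' T R E P x hL ((e1 G Q Q' T R E P hL).2 x h1 h2 h3))
    refine ⟨fun hne => ?_, k1⟩
    obtain ⟨x, h1, h2, h3⟩ := (e1 G Q Q' T R E P hL).1 hne
    exact ⟨x, k1 x h1 h2 h3⟩
  have rv := d.1 a.2 b c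
  have a3 := h rv e f g
  have su := j a3 g (i rv f)
  have zr := k e a3 su
  have gq := s b c e a3 zr (l d.2 e a3 su zr) (m zr) n (q a3 (p (o a3))) r
  have cl := w a.2 b c d.2 gq t
  intro G _ _ K hK
  have tq := a.1 G K hK
  obtain ⟨E, hE, hc⟩ := z b c rv a.2 gq G _ tq
  exact ⟨E, y a.2 rv gq t (v b c) cl x G _ tq E hE, ou a.1 cl G K hK E hE, hc,
    fu a.2 gq t cl x G _ tq E hE⟩

end H86.TP
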