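import Cfsg.Agent.H86.TP.Spec

/-! Tower NF (S1308), chapter TE part 1, job LP0. -/

set_option autoImplicit false

namespace H86.TP

open Cfsg Subgroup MulAction H14 H98 H1.Gold H31.S2 H14.GC H14.FE H14.NF
open scoped commutatorElement

universe u

theorem msup {G : Type u} [Group G] {A B : Subgroup G} (h : B ≤ nor A) (f : G) :
    f ∈ A ⊔ B ↔ ∃ a ∈ A, ∃ b ∈ B, f = a * b := by
  have e := coe_mul_of_right_le_normalizer_left A B h
  rw [← SetLike.mem_coe, e, Set.mem_mul]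
  constructor
  · rintro ⟨a, ha, b, hb, rfl⟩; exact ⟨a, ha, b, hb, rfl⟩
  · rintro ⟨a, ha, b, hb, rfl⟩; exact ⟨a, ha, b, hb, rfl⟩

theorem El.comm' {G : Type u} [Group G] {A : Subgroup G} (h : El A) {a b : G} (ha : a ∈ A)
    (hb : b ∈ A) : a * b = b * a := by
  have e1 : a⁻¹ = a := inv_eq_of_mul_eq_one_right (h a ha)
  have e2 : b⁻¹ = b := inv_eq_of_mul_eq_one_right (h b hb)
  have e3 : (a * b)⁻¹ = a * b := inv_eq_of_mul_eq_one_right (h _ (mul_mem ha hb))
  rw [← e3, mul_inv_rev, e1, e2]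

theorem jLP0 : JobLP0.{u} := by
  intro G _ _ Q Q' T R E h
  have ER : E ≤ R := h.eq ▸ inf_le_left
  have ET : ∀ e ∈ E, ∀ t ∈ T, t * e = e * t := fun e he t ht =>
    mem_centralizer_iff.1 ((h.eq ▸ he : e ∈ R ⊓ cen T).2) t ht
  have toE : ∀ y ∈ R, (∀ t ∈ T, t * y = y * t) → y ∈ E := fun y hy hc =>
    h.eq ▸ (⟨hy, mem_centralizer_iff.2 hc⟩ : y ∈ R ⊓ cen T)
  have TE' : T ≤ nor E := fun t ht => mem_normalizer_fintype fun e he => by
    have : t * e * t⁻¹ = e := by rw [ET e he t ht]; group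
    rw [this]; exact he
  have mF := msup TE'
  have mRT := msup h.norR
  have RF : ∀ x ∈ R, x ∈ E ⊔ T → x ∈ E := by
    intro x hx hF
    obtain ⟨r, hr, t, ht, rfl⟩ := (mF x).1 hF
    have : t = 1 := h.dis t ht (h.sylR.le ((R.mul_mem_cancel_left (ER hr)).1 hx))
    rw [this, mul_one]; exact hr
  have EF : ∀ e ∈ E, ∀ f ∈ E ⊔ T, f * e = e * f := by
    intro e he f hf
    obtain ⟨r, hr, t, ht, rfl⟩ := (mF f).1 hf
    rw [mul_assoc, ET e he t ht, ← mul_assoc, El.comm' h.elE hr he, mul_assoc]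
  have mem : ∀ y, y ∈ R ⊓ nor (E ⊔ T) ↔ y ∈ R ∧ ∀ t ∈ T, ⁅t, y⁆ ∈ E := by
    intro y
    constructor
    · rintro ⟨h1, h2⟩
      exact ⟨h1, fun t ht => RF _ (comm_mem_right (h.norR ht) h1)
        (comm_mem_left (mem_sup_right ht) h2)⟩
    · rintro ⟨h1, h2⟩
      have k1 : ∀ t ∈ T, y * t * y⁻¹ ∈ E ⊔ T := fun t ht => by
        have : y * t * y⁻¹ = t * ⁅t⁻¹, y⁆ := by rw [commutatorElement_def]; group
        rw [this]
        exact mul_mem (mem_sup_right ht) (mem_sup_left (h2 _ (inv_mem ht)))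
      have k2 : y⁻¹ ∈ nor E := mem_normalizer_fintype fun e he => by
        refine toE _ (mul_mem (mul_mem (inv_mem h1) (ER he)) (inv_mem (inv_mem h1))) fun t ht => ?_
        have := EF e he _ (k1 t ht)
        calc t * (y⁻¹ * e * y⁻¹⁻¹) = y⁻¹ * (y * t * y⁻¹ * e) * y := by group
          _ = y⁻¹ * (e * (y * t * y⁻¹)) * y := by rw [this]
          _ = _ := by group
      have k3 : y ∈ nor E := by simpa using inv_mem k2
      refine ⟨h1, mem_normalizer_fintype fun f hf => ?_⟩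
      obtain ⟨r, hr, t, ht, rfl⟩ := (mF f).1 hf
      have : y * (r * t) * y⁻¹ = y * r * y⁻¹ * (y * t * y⁻¹) := by group
      rw [this]
      exact mul_mem (mem_sup_left (conj_mem_of_mem_normalizer k3 hr)) (k1 t ht)
  set P := R ⊓ nor (E ⊔ T) with hP
  have EP : E ≤ P := le_inf ER (le_sup_left.trans le_normalizer)
  have two : IsPGroup 2 (R ⊔ T : Subgroup G) :=
    IsPGroup.to_sup_of_normal_left' h.sylR.isPGroup h.syl.isPGroup h.norR
  have ltP : E < P := by
    have l1 : E ⊔ T < R ⊔ T := lt_of_le_of_ne (sup_le_sup_right ER _) fun e =>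
      h.lt fun x hx => RF x hx (e ▸ mem_sup_left hx)
    obtain ⟨g, ⟨g1, g2⟩, g3⟩ := SetLike.exists_of_lt (lt_inf_normalizer two l1)
    obtain ⟨ρ, hρ, t, ht, rfl⟩ := (mRT g).1 g1
    refine lt_of_le_of_ne EP fun e => g3 (mul_mem (mem_sup_left ?_) (mem_sup_right ht))
    rw [e]
    exact ⟨hρ, ((nor (E ⊔ T)).mul_mem_cancel_right (le_normalizer (mem_sup_right ht))).1 g2⟩
  have fx : ∀ y ∈ R, ∀ t ∈ T, t ≠ 1 → ⁅t, y⁆ = 1 → y ∈ E := fun y hy t ht h1 hc =>
    h.fix t ht h1 ⟨hy, mem_centralizer_singleton_iff.2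
      (commutatorElement_eq_one_iff_mul_comm.1 hc).symm⟩
  have nd : ∀ y ∈ P, y ∉ E → ∀ t ∈ T, t ≠ 1 → ⁅t, y⁆ ≠ 1 := fun y hy hn t ht h1 hc =>
    hn (fx y hy.1 t ht h1 hc)
  have onto : ∀ y ∈ P, y ∉ E → ∀ r ∈ E, ∃ t ∈ T, ⁅t, y⁆ = r := by
    intro y hy hn r hr
    let φ : T → E := fun t => ⟨⁅(t : G), y⁆, ((mem y).1 hy).2 t t.2⟩
    have inj : Function.Injective φ := by
      intro a b hab
      have e : ⁅(a : G), y⁆ = ⁅(b : G), y⁆ := congrArg Subtype.val hab
      by_contra hne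
      refine nd y hy hn ((b : G)⁻¹ * a) (mul_mem (inv_mem b.2) a.2)
        (fun e1 => hne (Subtype.ext (inv_mul_eq_one.1 e1).symm)) ?_
      have : ⁅(b : G)⁻¹ * a, y⁆ = (b : G)⁻¹ * (⁅(a : G), y⁆ * (⁅(b : G), y⁆)⁻¹) * (⁅(b : G), y⁆ * y * b * y⁻¹) := by
        simp only [commutatorElement_def]; group
      rw [this, e]
      simp only [commutatorElement_def]; group
    obtain ⟨t, ht⟩ := ((Nat.bijective_iff_injective_and_card φ).2 ⟨inj, h.card.symm⟩).2 ⟨r, hr⟩
    exact ⟨t, t.2, congrArg Subtype.val ht⟩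
  have PE : P ≤ nor E := fun y hy => mem_normalizer_fintype fun e he =>
    RF _ (mul_mem (mul_mem hy.1 (ER he)) (inv_mem hy.1))
      (conj_mem_of_mem_normalizer hy.2 (mem_sup_left he))
  have sq2 : ∀ t y : G, ⁅t, y * y⁆ = ⁅t, y⁆ * (y * ⁅t, y⁆ * y⁻¹) := fun t y => by
    simp only [commutatorElement_def]; group
  have sqE : ∀ y ∈ P, y * y ∈ E := by
    intro y hy
    by_cases hn : y ∈ E
    · exact mul_mem hn hn
    have z1 : zpowers y ≤ P := zpowers_le.2 hy
    obtain ⟨d, hd, d2⟩ := four_exists_inv h.fourE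
    obtain ⟨s, s1, s2, s3⟩ := exists_inv_cen_two (H := zpowers y) (P := E)
      (h.sylR.isPGroup.to_le (z1.trans inf_le_left)) (h.sylR.isPGroup.to_le ER) (z1.trans PE)
      fun e => d2.1 (mem_bot.1 (e ▸ hd))
    obtain ⟨t, ht, e⟩ := onto y hy hn s s1
    have c := mem_centralizer_iff.1 s3 y (mem_zpowers y)
    refine fx _ (mul_mem hy.1 hy.1) t ht (fun e1 => s2.1 (by rw [← e, e1]; simp)) ?_
    rw [sq2, e, c, mul_inv_cancel_right, s2.2]
  have cenE : ∀ y ∈ P, ∀ r ∈ E, r * y = y * r := by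
    intro y hy r hr
    by_cases hn : y ∈ E
    · exact El.comm' h.elE hr hn
    obtain ⟨t, ht, e⟩ := onto y hy hn r hr
    have c : ⁅t, y * y⁆ = 1 := commutatorElement_eq_one_iff_mul_comm.2 (ET _ (sqE y hy) t ht)
    rw [sq2, e] at c
    have e1 : r⁻¹ = r := inv_eq_of_mul_eq_one_right (h.elE r hr)
    have e2 : r⁻¹ = y * r * y⁻¹ := inv_eq_of_mul_eq_one_right c
    rw [e1] at e2
    calc r * y = y * r * y⁻¹ * y := by rw [← e2]
      _ = y * r := by group
  have cmP : Cm3 P P E := by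
    intro a ha b hb
    refine toE _ (comm_mem ha.1 hb.1) fun t ht => ?_
    have ka := ((mem _).1 ha).2 t ht
    have kb := ((mem _).1 hb).2 t ht
    set r := ⁅t, a⁆ with hr
    set s := ⁅t, b⁆ with hs
    have e1 : t * a = r * a * t := by rw [hr, commutatorElement_def]; group
    have e2 : t * b = s * b * t := by rw [hs, commutatorElement_def]; group
    have e3 : t * (a * b) = r * s * (a * b) * t := by
      calc t * (a * b) = r * a * (t * b) := by rw [← mul_assoc, e1]; group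
        _ = r * (a * s) * b * t := by rw [e2]; group
        _ = _ := by rw [← cenE a ha s kb]; group
    have e4 : t * (b * a) = r * s * (b * a) * t := by
      calc t * (b * a) = s * b * (t * a) := by rw [← mul_assoc, e2]; group
        _ = s * (b * r) * a * t := by rw [e1]; group
        _ = (s * r) * (b * a) * t := by rw [← cenE b hb r ka]; group
        _ = _ := by rw [El.comm' h.elE kb ka]
    have e5 := cenE _ (mul_mem ha hb) _ (mul_mem ka kb)
    have e6 := cenE _ (mul_mem hb ha) _ (mul_mem ka kb)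
    have e7 : (b * a)⁻¹ * t⁻¹ = t⁻¹ * (b * a)⁻¹ * (r * s)⁻¹ := by
      calc (b * a)⁻¹ * t⁻¹ = (t * (b * a))⁻¹ := by group
        _ = _ := by rw [e4]; group
    calc t * ⁅a, b⁆ = t * (a * b) * ((b * a)⁻¹ * t⁻¹) * t := by rw [commutatorElement_def]; group
      _ = (r * s * (a * b)) * (r * s * (b * a))⁻¹ * t := by rw [e3, e7]; group
      _ = (a * b * (r * s)) * (b * a * (r * s))⁻¹ * t := by rw [e5, e6]
      _ = _ := by rw [commutatorElement_def]; group
  have TP : T ≤ nor P := le_normalizer_inf h.norR (le_sup_right.trans (le_normalizer.trans le_normalizer))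
  exact { h with
    eqP := rfl, mem := mem, ltP := ltP
    cenE := fun y hy => mem_centralizer_iff.2 (cenE y hy)
    sqE := sqE, cmP := cmP, nd := nd, onto := onto, memF := mF, memPT := msup TP, memRT := mRT }

end H86.TP
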